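import Mathlib.RingTheory.Smooth.Field
import Mathlib.RingTheory.Smooth.Locus
import Mathlib.FieldTheory.Perfect

/-!
# A field extension of a perfect field is a union of smooth algebras
-/

set_option autoImplicit false
set_option linter.all false
set_option backward.isDefEq.respectTransparency false

universe u

namespace EtFieldExtLib

open scoped nonZeroDivisors

theorem exists_smooth_ge {k K : Type u} [Field k] [PerfectField k] [Field K] [Algebra k K] (A : Subalgebra k K)
    (hA : A.FG) : ∃ B : Subalgebra k K, A ≤ B ∧ B.FG ∧ Algebra.Smooth k B := by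
  haveI : Algebra.FiniteType k A := ⟨(Subalgebra.fg_top _).mpr hA⟩
  haveI : Algebra.FinitePresentation k A := Algebra.FinitePresentation.of_finiteType.mp inferInstance
  haveI : (⊥ : Ideal A).IsPrime := Ideal.isPrime_bot
  haveI : Algebra.EssFiniteType k (Localization.AtPrime (⊥ : Ideal A)) :=
    Algebra.EssFiniteType.comp k A _
  haveI hfield : IsFractionRing A (Localization.AtPrime (⊥ : Ideal A)) := by
    have h : (⊥ : Ideal A).primeCompl = nonZeroDivisors A := by
      ext x
      simp [Ideal.primeCompl]
    show IsLocalization (nonZeroDivisors A) _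
    rw [← h]
    infer_instance
  letI : Field (Localization.AtPrime (⊥ : Ideal A)) := IsFractionRing.toField A
  haveI : Algebra.IsSmoothAt k (⊥ : Ideal A) := Algebra.FormallySmooth.of_perfectField
  obtain ⟨f, hf, hsm⟩ := Algebra.IsSmoothAt.exists_notMem_smooth k (⊥ : Ideal A)
  have hf0 : (f : K) ≠ 0 := fun h => hf (by simpa using Subtype.ext h)
  have hu : ∀ y : Submonoid.powers f, IsUnit (A.val y.1) := by
    rintro ⟨_, n, rfl⟩
    rw [map_pow]
    exact (isUnit_iff_ne_zero.2 hf0).pow n
  let φ : Localization.Away f →ₐ[k] K := IsLocalization.liftAlgHom (M := Submonoid.powers f) hu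
  have hinj : Function.Injective φ := by
    show Function.Injective (IsLocalization.lift hu)
    rw [IsLocalization.lift_injective_iff]
    intro x y
    refine ⟨fun h => congrArg A.val (IsLocalization.injective (Localization.Away f)
      (powers_le_nonZeroDivisors_of_noZeroDivisors fun h0 => hf (Ideal.mem_bot.2 h0)) h), fun h => congrArg _ (Subtype.ext h)⟩
  haveI := hsm
  refine ⟨φ.range, fun x hx => ?_, ?_, Algebra.Smooth.of_equiv (AlgEquiv.ofInjective φ hinj)⟩
  · exact ⟨algebraMap A (Localization.Away f) ⟨x, hx⟩, IsLocalization.lift_eq hu ⟨x, hx⟩⟩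
  · haveI : Algebra.FiniteType k (Localization.Away f) := inferInstance
    rw [← Algebra.map_top]
    exact Subalgebra.FG.map _ ‹Algebra.FiniteType k (Localization.Away f)›.out

end EtFieldExtLib
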