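import Groth.Agent.EtFieldExtLib.Smooth
import Groth.Agent.CdFieldLib.BaseChange
import Groth.Agent.CdFieldLib.Curve
import Groth.Agent.CdFieldLib.Rel
import Groth.Agent.EtBlowSqLib.Square
import Groth.Agent.EtContLib.PullSys
import Groth.Agent.QfHensFiniteLib.Basic
import Groth.Agent.EtBcQLib.Strict

/-!
# A geometric point of a smooth stage factors through a strict localisation
-/

set_option autoImplicit false
set_option linter.all false
set_option backward.isDefEq.respectTransparency false
set_option backward.isDefEq.respectTransparency.types false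
set_option synthInstance.maxHeartbeats 400000
set_option maxHeartbeats 1600000

universe u

open CategoryTheory CategoryTheory.Limits CategoryTheory.Abelian AlgebraicGeometry Opposite DescSecLib
open Groth.Agent Groth.Agent.EtShLib EtSliceLib EtAcycLib CdFieldLib
open EtContLib (adjL)

attribute [local instance] EtSliceLib.pullExact

noncomputable section

namespace EtFieldExtLib

variable {k : Type u} [Field k] {W : Scheme.{u}} (a : W ⟶ Spec (CommRingCat.of k)) (F : EtCoh.Ab W) (p : ℕ)

/-- Pullback on cohomology over `W`. -/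
abbrev hm {A B : Over W} (φ : A ⟶ B) : EtCoh.H B.left (etSys.M F B) p →+ EtCoh.H A.left (etSys.M F A) p :=
  etSys.Hmap F p φ

theorem hpullThen_eq_hm {A B : Over W} (φ : A ⟶ B) (x : EtCoh.H B.left (etSys.M F B) p) :
    EtLim.HpullThen φ.left (etSys.M F B) (adjL φ.left (etSys.k F φ)) p x = hm F p φ x :=
  (hmap_eq_Hpull F p φ x).symm

theorem hm_comp {A B C : Over W} (φ : A ⟶ B) (ψ : B ⟶ C) (χ : A ⟶ C) (h : φ ≫ ψ = χ)
    (x : EtCoh.H C.left (etSys.M F C) p) : hm F p φ (hm F p ψ x) = hm F p χ x := by
  subst h
  exact (etSys.Hmap_comp F p φ ψ x).symm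

theorem bijective_hm_of_isIso {A B : Over W} (φ : A ⟶ B) [IsIso φ.left] : Function.Bijective (hm F p φ) := by
  haveI : IsIso φ :=
    haveI : IsIso ((Over.forget W).map φ) := ‹IsIso φ.left›
    isIso_of_reflects_iso φ (Over.forget W)
  refine Function.bijective_iff_has_inverse.2 ⟨hm F p (inv φ), fun x => ?_, fun x => ?_⟩
  · rw [hm_comp F p (inv φ) φ (𝟙 B) (IsIso.inv_hom_id φ)]
    exact etSys.Hmap_id F p B x
  · rw [hm_comp F p φ (inv φ) (𝟙 A) (IsIso.hom_inv_id φ)]
    exact etSys.Hmap_id F p A x

/-- The ring of the point of the spectrum of a field is that field. -/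
theorem bijective_toStalk (s : Spec (CommRingCat.of k)) :
    Function.Bijective (StructureSheaf.toStalk k s).hom := by
  letI : Algebra k ((Spec (CommRingCat.of k)).presheaf.stalk s) := StructureSheaf.stalkAlgebra k s
  haveI : IsLocalization.AtPrime ((Spec (CommRingCat.of k)).presheaf.stalk s) s.asIdeal :=
    StructureSheaf.IsLocalization.to_stalk k s
  let e : k ≃ₐ[k] (Spec (CommRingCat.of k)).presheaf.stalk s :=
    IsLocalization.atUnits k s.asIdeal.primeCompl fun z hz =>
      isUnit_iff_ne_zero.2 fun h0 => hz (h0 ▸ s.asIdeal.zero_mem)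
  have h1 : ((StructureSheaf.toStalk k s).hom : k → _) = e := funext fun z => (e.commutes z).symm
  rw [h1]
  exact e.bijective

theorem isIso_fromSpecStalk (s : Spec (CommRingCat.of k)) : IsIso ((Spec (CommRingCat.of k)).fromSpecStalk s) := by
  rw [Spec.fromSpecStalk_eq']
  haveI : IsIso (StructureSheaf.toStalk k s) := (ConcreteCategory.isIso_iff_bijective _).2 (bijective_toStalk s)
  infer_instance

theorem henselian_stalk [IsSepClosed k] (s : Spec (CommRingCat.of k)) :
    HenselianLocalRing ((Spec (CommRingCat.of k)).presheaf.stalk s) ∧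
      IsSepClosed (IsLocalRing.ResidueField ((Spec (CommRingCat.of k)).presheaf.stalk s)) := by
  let F : Field ((Spec (CommRingCat.of k)).presheaf.stalk s) := (isField_stalk s).toField
  have hb := bijective_toStalk s
  constructor
  · letI := F
    infer_instance
  · have h1 : Function.Bijective (IsLocalRing.residue ((Spec (CommRingCat.of k)).presheaf.stalk s)) := by
      refine ⟨(RingHom.injective_iff_ker_eq_bot _).2 ?_, IsLocalRing.residue_surjective⟩
      rw [IsLocalRing.ker_residue]
      exact IsLocalRing.isField_iff_maximalIdeal_eq.1 (isField_stalk s)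
    exact WLocalLib.isSepClosed_of_equiv ((RingEquiv.ofBijective _ hb).trans (RingEquiv.ofBijective _ h1))

/-- A morphism over `W` through an isomorphism onto `W`. -/
theorem bijective_to_base {A B : Scheme.{u}} (m : A ⟶ B) (tA : A ⟶ W) (tB : B ⟶ W) [IsIso tB] (w : m ≫ tB = tA)
    [PreservesFiniteLimits (EtCoh.pull m)] (h : Function.Bijective (EtCore.HpullVia m tB tA w F p))
    (χ : Over.mk tA ⟶ Over.mk (𝟙 W)) : Function.Bijective (hm F p χ) := by
  let φm : Over.mk tA ⟶ Over.mk tB := Over.homMk m w
  let φS : Over.mk tB ⟶ Over.mk (𝟙 W) := Over.homMk tB (Category.comp_id _)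
  haveI : IsIso φS.left := inferInstanceAs (IsIso tB)
  have e : χ = φm ≫ φS := Over.OverMorphism.ext ((Category.comp_id χ.left).symm.trans ((Over.w χ).trans w.symm))
  have hm' : (hm F p φm : _ → _) = EtCore.HpullVia m tB tA w F p :=
    funext fun z => (hpullThen_eq_hm F p φm z).symm.trans (EtContLib.HpullVia_eq F m tB tA w p z).symm
  have hb : (hm F p (φm ≫ φS) : _ → _) = hm F p φm ∘ hm F p φS :=
    funext fun z => (hm_comp F p φm φS _ rfl z).symm
  rw [e, hb, hm']
  exact h.comp (bijective_hm_of_isIso F p φS)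

/-- Base change along the smooth schemes over the field. -/
def SmoothBC : Prop :=
  ∀ {U : Scheme.{u}} (g : U ⟶ Spec (CommRingCat.of k)) [Smooth g],
    IsIso (EtBC.bcQ a g (pullback.snd a g) (pullback.fst a g) pullback.condition p F)

variable {K : Type u} [Field K] [IsSepClosed K] [IsSepClosed k]
variable [QuasiCompact a] [QuasiSeparated a]
variable {U : Scheme.{u}} (g : U ⟶ Spec (CommRingCat.of k)) (ub : Spec (CommRingCat.of K) ⟶ U)
  (s : Spec (CommRingCat.of K) ⟶ Spec (CommRingCat.of k)) (hs : ub ≫ g = s)

/-- The map of a geometric fibre to a stage. -/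
abbrev toStage : Over.mk (pullback.snd s a) ⟶ Over.mk (pullback.snd g a) :=
  Over.homMk (pullback.lift (pullback.fst s a ≫ ub) (pullback.snd s a)
    (by rw [Category.assoc, hs]; exact pullback.condition)) (pullback.lift_snd _ _ _)

/-- **The geometric point factors through a strict localisation with the cohomology of the base.** -/
theorem exists_strict_stage [Smooth g] (H : SmoothBC a F p) :
    ∃ (Z : Over W) (u : Z ⟶ Over.mk (pullback.snd g a)) (e : Over.mk (pullback.snd s a) ⟶ Z),
      e ≫ u = toStage a g ub s hs ∧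
        Function.Bijective (hm F p (u ≫ (Over.homMk (pullback.snd g a) (Category.comp_id _) :
          Over.mk (pullback.snd g a) ⟶ Over.mk (𝟙 W)))) := by
  let x : U := ub.base (IsLocalRing.closedPoint K)
  obtain ⟨RX, _, _, _, _, _⟩ := Groth.Agent.S0537.result (U.presheaf.stalk x)
  haveI : IsSepClosed (IsLocalRing.ResidueField K) := SkySumLib.isSepClosed_residueField_self K
  obtain ⟨l, -, hl⟩ := LocAcycBCLib.exists_lift (R := RX) (Scheme.stalkClosedPointTo ub).hom
  have hlu : Spec.map (CommRingCat.ofHom l) ≫ Hens2.specOf U x RX = ub := by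
    show Spec.map _ ≫ Spec.map _ ≫ _ = _
    rw [← Category.assoc, ← Spec.map_comp, ← CommRingCat.ofHom_comp, hl]
    exact Scheme.Spec_stalkClosedPointTo_fromSpecStalk ub
  let OS := (Spec (CommRingCat.of k)).presheaf.stalk (g.base x)
  haveI := isIso_fromSpecStalk (g.base x)
  haveI : HenselianLocalRing OS := (henselian_stalk (g.base x)).1
  haveI : IsSepClosed (IsLocalRing.ResidueField OS) := (henselian_stalk (g.base x)).2
  haveI hSH := QfHensFiniteLib.isStrictHenselization_self OS
  haveI : IsIso (Hens2.specOf (Spec (CommRingCat.of k)) (g.base x) OS) := by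
    show IsIso (Spec.map (CommRingCat.ofHom (RingHom.id OS)) ≫ _)
    rw [CommRingCat.ofHom_id, Spec.map_id, Category.id_comp]
    infer_instance
  let ψl := (algebraMap (U.presheaf.stalk x) RX).comp (g.stalkMap x).hom
  haveI : IsLocalHom ψl := RingHom.isLocalHom_comp _ _
  have hψ' : ψl.comp (algebraMap OS OS) = (algebraMap (U.presheaf.stalk x) RX).comp (g.stalkMap x).hom :=
    RingHom.comp_id _
  have hcomm : Spec.map (CommRingCat.ofHom ψl) ≫ Hens2.specOf (Spec (CommRingCat.of k)) (g.base x) OS =
      Hens2.specOf U x RX ≫ g := by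
    show _ ≫ Spec.map (CommRingCat.ofHom (RingHom.id OS)) ≫ _ = (Spec.map _ ≫ _) ≫ g
    rw [CommRingCat.ofHom_id, Spec.map_id, Category.id_comp, Category.assoc,
      ← Scheme.SpecMap_stalkMap_fromSpecStalk g, ← Category.assoc, ← Spec.map_comp]
    rfl
  generalize hgX : Hens2.specOf U x RX = gX at hlu hcomm
  subst hgX
  let m : pullback a (Hens2.specOf U x RX ≫ g) ⟶ pullback a (Hens2.specOf (Spec (CommRingCat.of k)) (g.base x) OS) :=
    pullback.lift (pullback.fst _ _) (pullback.snd _ _ ≫ Spec.map (CommRingCat.ofHom ψl))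
      (pullback.condition.trans ((congrArg (pullback.snd _ _ ≫ ·) hcomm.symm).trans (Category.assoc _ _ _).symm))
  have wm : m ≫ pullback.fst _ _ = pullback.fst _ _ := pullback.lift_fst _ _ _
  have hB := (EtBcQLib.isIso_bcQ_iff g a (pullback.snd a g) (pullback.fst a g) (IsPullback.of_hasPullback a g) F p).2
    (H g) x OS RX ψl hψ' _ _ _ _ (IsPullback.of_hasPullback a _) _ _ (IsPullback.of_hasPullback a _) m wm
    (pullback.lift_snd _ _ _)
  have hf : pullback.snd s a ≫ a =
      (pullback.fst s a ≫ Spec.map (CommRingCat.ofHom l)) ≫ Hens2.specOf U x RX ≫ g := by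
    refine pullback.condition.symm.trans ((congrArg (pullback.fst s a ≫ ·) hs.symm).trans ?_)
    exact (congrArg (fun t => pullback.fst s a ≫ t ≫ g) hlu.symm).trans (by simp only [Category.assoc])
  refine ⟨Over.mk (pullback.fst a (Hens2.specOf U x RX ≫ g)),
    Over.homMk (pullback.lift (pullback.snd _ _ ≫ Hens2.specOf U x RX) (pullback.fst _ _)
      ((Category.assoc _ _ _).trans pullback.condition.symm)) (pullback.lift_snd _ _ _),
    Over.homMk (pullback.lift (pullback.snd s a) (pullback.fst s a ≫ Spec.map (CommRingCat.ofHom l)) hf)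
      (pullback.lift_fst _ _ _), ?_, ?_⟩
  · refine Over.OverMorphism.ext (pullback.hom_ext ?_ ?_)
    · simp only [Over.comp_left, Over.homMk_left, Category.assoc, pullback.lift_fst, pullback.lift_fst_assoc,
        pullback.lift_snd_assoc]
      rw [hlu]
    · simp only [Over.comp_left, Over.homMk_left, Category.assoc, pullback.lift_snd, pullback.lift_fst]
  · haveI : IsIso (pullback.fst a (Hens2.specOf (Spec (CommRingCat.of k)) (g.base x) OS)) := inferInstance
    exact bijective_to_base F p m _ _ wm hB _

end EtFieldExtLib
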